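import Cfsg.Agent.Recog71.Fi22Out.Defs
import Cfsg.Agent.SporB.Fi22.Pres

set_option autoImplicit false
set_option maxRecDepth 100000

namespace Cfsg.Agent.Recog71.Fi22Out

open Cfsg.Agent.CosetEnum
open Cfsg.Agent.Recog71.FischerOut

theorem xWord_lt : xWord.all (fun l => Nat.blt l 9) = true := by decide +kernel

theorem x_fix : allRange (fun p => !(Nat.beq (Fi22.Rep.tbl.run xWord p) p) || Nat.beq p 0) 0 3510 = true := by
  decide +kernel

theorem x_base : Fi22.Rep.tbl.run xWord 0 = 0 := by decide +kernel

theorem x_move : Nat.beq (Fi22.Rep.tbl.run xWord 1) 1 = false := by decide +kernel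

theorem x_pow : (List.range 9).all (fun l => Nat.beq (along 11 (pi.getD l 0)) (pi.getD l 0)) = true := by
  decide +kernel

theorem fix_listed : allRange (fun q => !(Nat.beq (Fi22.Rep.tbl.run [0] q) q) ||
    fixT.any (fun e => Nat.beq e.1 q)) 0 3510 = true := by decide +kernel

theorem sig_ok : fixT.all sigEntry = true := by decide +kernel

theorem cyc0_ok : okT Fi22.Rep.tbl cyc0 = true := by decide +kernel

theorem cyc0_fix : Nat.beq (Fi22.Rep.tbl.run [0] (pw Fi22.Rep.tbl pi cyc0)) (pw Fi22.Rep.tbl pi cyc0) = true := by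
  decide +kernel

theorem cycT_ok : (List.range 11).all (fun i => okT Fi22.Rep.tbl (cycT.getD i (0, [])) &&
    Nat.beq (pw Fi22.Rep.tbl pi (cycT.getD i (0, []))) (along i (pw Fi22.Rep.tbl pi cyc0))) = true := by
  decide +kernel

theorem cycT_len : cycT.length = 11 := by decide +kernel

theorem sub_lt : (List.range 9).all (fun l => (sub l).all fun m => Nat.blt m 9) = true := by
  decide +kernel

theorem sub_rels : Fi22.pres.relWords.all (fun W => W.all (fun l => Nat.blt l 9) &&
    (List.range 9).all (fun l => Nat.beq (Fi22.Rep.tbl.run (W.flatMap sub) (pi.getD l 0)) (pi.getD l 0))) =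
      true := by decide +kernel

theorem s_ok : allRange sPoint 0 3510 = true := by decide +kernel

theorem s_base : sPt 0 = 0 := by decide +kernel

theorem s_moved : countBelow (fun i => !(Nat.beq (sPt i) i)) 3510 = 3150 := by decide +kernel

end Cfsg.Agent.Recog71.Fi22Out
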