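import Cfsg.Agent.Recog71.Fi22Out.Data
import Cfsg.Agent.Recog71.FischerOutCore
import Cfsg.Agent.SporB.Fi22.Rep.Data

/-!
Checks on the points of `Fi22` for its automorphisms.
-/

set_option autoImplicit false

namespace Cfsg.Agent.Recog71.Fi22Out

open Cfsg.Agent.CosetEnum
open Cfsg.Agent.Recog71.FischerOut

/-- The point moved along a power of the word of order 11. -/
noncomputable def along (i p : ℕ) : ℕ := Fi22.Rep.tbl.run (repWord xWord i) p

/-- An entry of the list of fixed points either has another pattern than the cycle or lies in it. -/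
noncomputable def sigEntry (e : ℕ × ℕ × List ℕ) : Bool :=
  okT Fi22.Rep.tbl e.2 && Nat.beq (pw Fi22.Rep.tbl pi e.2) e.1 &&
    (!((List.range 11).all fun i =>
        Nat.beq (Fi22.Rep.tbl.run (dw e.2) (along i e.1)) (along i e.1) ==
          Nat.beq (Fi22.Rep.tbl.run (dw cyc0) (along i (pw Fi22.Rep.tbl pi cyc0)))
            (along i (pw Fi22.Rep.tbl pi cyc0))) ||
      (List.range 11).any fun i => Nat.beq (along i (pw Fi22.Rep.tbl pi cyc0)) e.1)

/-- The word replacing a letter under the outer automorphism. -/
def sub (l : ℕ) : List ℕ := bif Nat.beq l 7 then dw tH else [l]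

/-- The point map of the outer automorphism. -/
noncomputable def sPt (p : ℕ) : ℕ := sTree.get 16 p

/-- The point map commutes with the letters. -/
noncomputable def sPoint (p : ℕ) : Bool :=
  Nat.blt (sPt p) 3510 && Nat.beq (sPt (sPt p)) p &&
    (List.range 9).all fun l =>
      Nat.beq (sPt (Fi22.Rep.tbl.at' p l)) (Fi22.Rep.tbl.run (sub l) (sPt p))

end Cfsg.Agent.Recog71.Fi22Out
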