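import Cfsg.Agent.Recog71.Fi22Out.Data
import Cfsg.Agent.Recog71.FischerOutCore
import Cfsg.Agent.SporB.Fi22.Rep.Data

set_option autoImplicit false
set_option maxRecDepth 100000

namespace Cfsg.Agent.Recog71.Fi22Out

open Cfsg.Agent.CosetEnum

theorem nodeOK0 : FischerOut.nodeOK Fi22.Rep.tbl pi prev0 0 roots0 ws0 = true := by decide +kernel

theorem node0_all : allRange (fun p => FischerOut.nodePoint Fi22.Rep.tbl pi prev0 0 roots0 ws0 rank0 p) 0 3510 = true := by decide +kernel

theorem node0 : ∀ p < 3510, FischerOut.nodePoint Fi22.Rep.tbl pi prev0 0 roots0 ws0 rank0 p = true := fun p hp => allRange_spec node0_all p (Nat.zero_le _) (by omega)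

theorem nodeOK4 : FischerOut.nodeOK Fi22.Rep.tbl pi prev4 4 roots4 ws4 = true := by decide +kernel

theorem node4_all : allRange (fun p => FischerOut.nodePoint Fi22.Rep.tbl pi prev4 4 roots4 ws4 rank4 p) 0 3510 = true := by decide +kernel

theorem node4 : ∀ p < 3510, FischerOut.nodePoint Fi22.Rep.tbl pi prev4 4 roots4 ws4 rank4 p = true := fun p hp => allRange_spec node4_all p (Nat.zero_le _) (by omega)

theorem nodeOK8 : FischerOut.nodeOK Fi22.Rep.tbl pi prev8 8 roots8 ws8 = true := by decide +kernel

theorem node8_all : allRange (fun p => FischerOut.nodePoint Fi22.Rep.tbl pi prev8 8 roots8 ws8 rank8 p) 0 3510 = true := by decide +kernel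

theorem node8 : ∀ p < 3510, FischerOut.nodePoint Fi22.Rep.tbl pi prev8 8 roots8 ws8 rank8 p = true := fun p hp => allRange_spec node8_all p (Nat.zero_le _) (by omega)

theorem nodeOK12 : FischerOut.nodeOK Fi22.Rep.tbl pi prev12 8 roots12 ws12 = true := by decide +kernel

theorem node12_all : allRange (fun p => FischerOut.nodePoint Fi22.Rep.tbl pi prev12 8 roots12 ws12 rank12 p) 0 3510 = true := by decide +kernel

theorem node12 : ∀ p < 3510, FischerOut.nodePoint Fi22.Rep.tbl pi prev12 8 roots12 ws12 rank12 p = true := fun p hp => allRange_spec node12_all p (Nat.zero_le _) (by omega)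

theorem nodeOK16 : FischerOut.nodeOK Fi22.Rep.tbl pi prev16 7 roots16 ws16 = true := by decide +kernel

theorem node16_all : allRange (fun p => FischerOut.nodePoint Fi22.Rep.tbl pi prev16 7 roots16 ws16 rank16 p) 0 3510 = true := by decide +kernel

theorem node16 : ∀ p < 3510, FischerOut.nodePoint Fi22.Rep.tbl pi prev16 7 roots16 ws16 rank16 p = true := fun p hp => allRange_spec node16_all p (Nat.zero_le _) (by omega)

theorem nodeOK20 : FischerOut.nodeOK Fi22.Rep.tbl pi prev20 7 roots20 ws20 = true := by decide +kernel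

theorem node20_all : allRange (fun p => FischerOut.nodePoint Fi22.Rep.tbl pi prev20 7 roots20 ws20 rank20 p) 0 3510 = true := by decide +kernel

theorem node20 : ∀ p < 3510, FischerOut.nodePoint Fi22.Rep.tbl pi prev20 7 roots20 ws20 rank20 p = true := fun p hp => allRange_spec node20_all p (Nat.zero_le _) (by omega)

end Cfsg.Agent.Recog71.Fi22Out
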