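import Cfsg.Agent.Recog71.Fi22Out.Data
import Cfsg.Agent.Recog71.FischerOutCore
import Cfsg.Agent.SporB.Fi22.Rep.Data

set_option autoImplicit false
set_option maxRecDepth 100000

namespace Cfsg.Agent.Recog71.Fi22Out

open Cfsg.Agent.CosetEnum

theorem nodeOK1 : FischerOut.nodeOK Fi22.Rep.tbl pi prev1 1 roots1 ws1 = true := by decide +kernel

theorem node1_all : allRange (fun p => FischerOut.nodePoint Fi22.Rep.tbl pi prev1 1 roots1 ws1 rank1 p) 0 3510 = true := by decide +kernel

theorem node1 : ∀ p < 3510, FischerOut.nodePoint Fi22.Rep.tbl pi prev1 1 roots1 ws1 rank1 p = true := fun p hp => allRange_spec node1_all p (Nat.zero_le _) (by omega)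

theorem nodeOK5 : FischerOut.nodeOK Fi22.Rep.tbl pi prev5 5 roots5 ws5 = true := by decide +kernel

theorem node5_all : allRange (fun p => FischerOut.nodePoint Fi22.Rep.tbl pi prev5 5 roots5 ws5 rank5 p) 0 3510 = true := by decide +kernel

theorem node5 : ∀ p < 3510, FischerOut.nodePoint Fi22.Rep.tbl pi prev5 5 roots5 ws5 rank5 p = true := fun p hp => allRange_spec node5_all p (Nat.zero_le _) (by omega)

theorem nodeOK9 : FischerOut.nodeOK Fi22.Rep.tbl pi prev9 8 roots9 ws9 = true := by decide +kernel

theorem node9_all : allRange (fun p => FischerOut.nodePoint Fi22.Rep.tbl pi prev9 8 roots9 ws9 rank9 p) 0 3510 = true := by decide +kernel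

theorem node9 : ∀ p < 3510, FischerOut.nodePoint Fi22.Rep.tbl pi prev9 8 roots9 ws9 rank9 p = true := fun p hp => allRange_spec node9_all p (Nat.zero_le _) (by omega)

theorem nodeOK13 : FischerOut.nodeOK Fi22.Rep.tbl pi prev13 8 roots13 ws13 = true := by decide +kernel

theorem node13_all : allRange (fun p => FischerOut.nodePoint Fi22.Rep.tbl pi prev13 8 roots13 ws13 rank13 p) 0 3510 = true := by decide +kernel

theorem node13 : ∀ p < 3510, FischerOut.nodePoint Fi22.Rep.tbl pi prev13 8 roots13 ws13 rank13 p = true := fun p hp => allRange_spec node13_all p (Nat.zero_le _) (by omega)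

theorem nodeOK17 : FischerOut.nodeOK Fi22.Rep.tbl pi prev17 8 roots17 ws17 = true := by decide +kernel

theorem node17_all : allRange (fun p => FischerOut.nodePoint Fi22.Rep.tbl pi prev17 8 roots17 ws17 rank17 p) 0 3510 = true := by decide +kernel

theorem node17 : ∀ p < 3510, FischerOut.nodePoint Fi22.Rep.tbl pi prev17 8 roots17 ws17 rank17 p = true := fun p hp => allRange_spec node17_all p (Nat.zero_le _) (by omega)

theorem nodeOK21 : FischerOut.nodeOK Fi22.Rep.tbl pi prev21 8 roots21 ws21 = true := by decide +kernel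

theorem node21_all : allRange (fun p => FischerOut.nodePoint Fi22.Rep.tbl pi prev21 8 roots21 ws21 rank21 p) 0 3510 = true := by decide +kernel

theorem node21 : ∀ p < 3510, FischerOut.nodePoint Fi22.Rep.tbl pi prev21 8 roots21 ws21 rank21 p = true := fun p hp => allRange_spec node21_all p (Nat.zero_le _) (by omega)

end Cfsg.Agent.Recog71.Fi22Out
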