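import Cfsg.Agent.Recog71.Fi22Out.Data
import Cfsg.Agent.Recog71.FischerOutCore
import Cfsg.Agent.SporB.Fi22.Rep.Data

set_option autoImplicit false
set_option maxRecDepth 100000

namespace Cfsg.Agent.Recog71.Fi22Out

open Cfsg.Agent.CosetEnum

theorem nodeOK2 : FischerOut.nodeOK Fi22.Rep.tbl pi prev2 2 roots2 ws2 = true := by decide +kernel

theorem node2_all : allRange (fun p => FischerOut.nodePoint Fi22.Rep.tbl pi prev2 2 roots2 ws2 rank2 p) 0 3510 = true := by decide +kernel

theorem node2 : ∀ p < 3510, FischerOut.nodePoint Fi22.Rep.tbl pi prev2 2 roots2 ws2 rank2 p = true := fun p hp => allRange_spec node2_all p (Nat.zero_le _) (by omega)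

theorem nodeOK6 : FischerOut.nodeOK Fi22.Rep.tbl pi prev6 6 roots6 ws6 = true := by decide +kernel

theorem node6_all : allRange (fun p => FischerOut.nodePoint Fi22.Rep.tbl pi prev6 6 roots6 ws6 rank6 p) 0 3510 = true := by decide +kernel

theorem node6 : ∀ p < 3510, FischerOut.nodePoint Fi22.Rep.tbl pi prev6 6 roots6 ws6 rank6 p = true := fun p hp => allRange_spec node6_all p (Nat.zero_le _) (by omega)

theorem nodeOK10 : FischerOut.nodeOK Fi22.Rep.tbl pi prev10 8 roots10 ws10 = true := by decide +kernel

theorem node10_all : allRange (fun p => FischerOut.nodePoint Fi22.Rep.tbl pi prev10 8 roots10 ws10 rank10 p) 0 3510 = true := by decide +kernel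

theorem node10 : ∀ p < 3510, FischerOut.nodePoint Fi22.Rep.tbl pi prev10 8 roots10 ws10 rank10 p = true := fun p hp => allRange_spec node10_all p (Nat.zero_le _) (by omega)

theorem nodeOK14 : FischerOut.nodeOK Fi22.Rep.tbl pi prev14 5 roots14 ws14 = true := by decide +kernel

theorem node14_all : allRange (fun p => FischerOut.nodePoint Fi22.Rep.tbl pi prev14 5 roots14 ws14 rank14 p) 0 3510 = true := by decide +kernel

theorem node14 : ∀ p < 3510, FischerOut.nodePoint Fi22.Rep.tbl pi prev14 5 roots14 ws14 rank14 p = true := fun p hp => allRange_spec node14_all p (Nat.zero_le _) (by omega)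

theorem nodeOK18 : FischerOut.nodeOK Fi22.Rep.tbl pi prev18 5 roots18 ws18 = true := by decide +kernel

theorem node18_all : allRange (fun p => FischerOut.nodePoint Fi22.Rep.tbl pi prev18 5 roots18 ws18 rank18 p) 0 3510 = true := by decide +kernel

theorem node18 : ∀ p < 3510, FischerOut.nodePoint Fi22.Rep.tbl pi prev18 5 roots18 ws18 rank18 p = true := fun p hp => allRange_spec node18_all p (Nat.zero_le _) (by omega)

end Cfsg.Agent.Recog71.Fi22Out
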