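import Cfsg.Agent.Recog71.Fi22Out.Data
import Cfsg.Agent.Recog71.FischerOutCore
import Cfsg.Agent.SporB.Fi22.Rep.Data

set_option autoImplicit false
set_option maxRecDepth 100000

namespace Cfsg.Agent.Recog71.Fi22Out

open Cfsg.Agent.CosetEnum

theorem nodeOK3 : FischerOut.nodeOK Fi22.Rep.tbl pi prev3 3 roots3 ws3 = true := by decide +kernel

theorem node3_all : allRange (fun p => FischerOut.nodePoint Fi22.Rep.tbl pi prev3 3 roots3 ws3 rank3 p) 0 3510 = true := by decide +kernel

theorem node3 : ∀ p < 3510, FischerOut.nodePoint Fi22.Rep.tbl pi prev3 3 roots3 ws3 rank3 p = true := fun p hp => allRange_spec node3_all p (Nat.zero_le _) (by omega)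

theorem nodeOK7 : FischerOut.nodeOK Fi22.Rep.tbl pi prev7 7 roots7 ws7 = true := by decide +kernel

theorem node7_all : allRange (fun p => FischerOut.nodePoint Fi22.Rep.tbl pi prev7 7 roots7 ws7 rank7 p) 0 3510 = true := by decide +kernel

theorem node7 : ∀ p < 3510, FischerOut.nodePoint Fi22.Rep.tbl pi prev7 7 roots7 ws7 rank7 p = true := fun p hp => allRange_spec node7_all p (Nat.zero_le _) (by omega)

theorem nodeOK11 : FischerOut.nodeOK Fi22.Rep.tbl pi prev11 7 roots11 ws11 = true := by decide +kernel

theorem node11_all : allRange (fun p => FischerOut.nodePoint Fi22.Rep.tbl pi prev11 7 roots11 ws11 rank11 p) 0 3510 = true := by decide +kernel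

theorem node11 : ∀ p < 3510, FischerOut.nodePoint Fi22.Rep.tbl pi prev11 7 roots11 ws11 rank11 p = true := fun p hp => allRange_spec node11_all p (Nat.zero_le _) (by omega)

theorem nodeOK15 : FischerOut.nodeOK Fi22.Rep.tbl pi prev15 6 roots15 ws15 = true := by decide +kernel

theorem node15_all : allRange (fun p => FischerOut.nodePoint Fi22.Rep.tbl pi prev15 6 roots15 ws15 rank15 p) 0 3510 = true := by decide +kernel

theorem node15 : ∀ p < 3510, FischerOut.nodePoint Fi22.Rep.tbl pi prev15 6 roots15 ws15 rank15 p = true := fun p hp => allRange_spec node15_all p (Nat.zero_le _) (by omega)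

theorem nodeOK19 : FischerOut.nodeOK Fi22.Rep.tbl pi prev19 6 roots19 ws19 = true := by decide +kernel

theorem node19_all : allRange (fun p => FischerOut.nodePoint Fi22.Rep.tbl pi prev19 6 roots19 ws19 rank19 p) 0 3510 = true := by decide +kernel

theorem node19 : ∀ p < 3510, FischerOut.nodePoint Fi22.Rep.tbl pi prev19 6 roots19 ws19 rank19 p = true := fun p hp => allRange_spec node19_all p (Nat.zero_le _) (by omega)

end Cfsg.Agent.Recog71.Fi22Out
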