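import Cfsg.Agent.Recog71.Fi22Out.Data
import Cfsg.Agent.Recog71.FischerOutCore
import Cfsg.Agent.SporB.Fi22.Rep.Data

set_option autoImplicit false
set_option maxRecDepth 100000

namespace Cfsg.Agent.Recog71.Fi22Out

open Cfsg.Agent.CosetEnum

theorem roundOK0 : FischerOut.roundOK Fi22.Rep.tbl pi ((0, []) :: cycT) 1 (rounds.getD 0 (0, [])).2 = true := by decide +kernel

theorem round0_all : allRange (fun p => FischerOut.roundPoint Fi22.Rep.tbl pi ((0, []) :: cycT) 1 (rounds.getD 0 (0, [])).2 p) 0 3510 = true := by decide +kernel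

theorem round0 : ∀ p < 3510, FischerOut.roundPoint Fi22.Rep.tbl pi ((0, []) :: cycT) 1 (rounds.getD 0 (0, [])).2 p = true := fun p hp => allRange_spec round0_all p (Nat.zero_le _) (by omega)

theorem roundOK1 : FischerOut.roundOK Fi22.Rep.tbl pi (((0, []) :: cycT) ++ [(1, [])]) 3 (rounds.getD 1 (0, [])).2 = true := by decide +kernel

theorem round1_all : allRange (fun p => FischerOut.roundPoint Fi22.Rep.tbl pi (((0, []) :: cycT) ++ [(1, [])]) 3 (rounds.getD 1 (0, [])).2 p) 0 3510 = true := by decide +kernel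

theorem round1 : ∀ p < 3510, FischerOut.roundPoint Fi22.Rep.tbl pi (((0, []) :: cycT) ++ [(1, [])]) 3 (rounds.getD 1 (0, [])).2 p = true := fun p hp => allRange_spec round1_all p (Nat.zero_le _) (by omega)

theorem roundOK2 : FischerOut.roundOK Fi22.Rep.tbl pi ((((0, []) :: cycT) ++ [(1, [])]) ++ [(3, [])]) 5 (rounds.getD 2 (0, [])).2 = true := by decide +kernel

theorem round2_all : allRange (fun p => FischerOut.roundPoint Fi22.Rep.tbl pi ((((0, []) :: cycT) ++ [(1, [])]) ++ [(3, [])]) 5 (rounds.getD 2 (0, [])).2 p) 0 3510 = true := by decide +kernel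

theorem round2 : ∀ p < 3510, FischerOut.roundPoint Fi22.Rep.tbl pi ((((0, []) :: cycT) ++ [(1, [])]) ++ [(3, [])]) 5 (rounds.getD 2 (0, [])).2 p = true := fun p hp => allRange_spec round2_all p (Nat.zero_le _) (by omega)

theorem roundOK3 : FischerOut.roundOK Fi22.Rep.tbl pi (((((0, []) :: cycT) ++ [(1, [])]) ++ [(3, [])]) ++ [(5, [])]) 6 (rounds.getD 3 (0, [])).2 = true := by decide +kernel

theorem round3_all : allRange (fun p => FischerOut.roundPoint Fi22.Rep.tbl pi (((((0, []) :: cycT) ++ [(1, [])]) ++ [(3, [])]) ++ [(5, [])]) 6 (rounds.getD 3 (0, [])).2 p) 0 3510 = true := by decide +kernel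

theorem round3 : ∀ p < 3510, FischerOut.roundPoint Fi22.Rep.tbl pi (((((0, []) :: cycT) ++ [(1, [])]) ++ [(3, [])]) ++ [(5, [])]) 6 (rounds.getD 3 (0, [])).2 p = true := fun p hp => allRange_spec round3_all p (Nat.zero_le _) (by omega)

theorem roundOK4 : FischerOut.roundOK Fi22.Rep.tbl pi ((((((0, []) :: cycT) ++ [(1, [])]) ++ [(3, [])]) ++ [(5, [])]) ++ [(6, [])]) 7 (rounds.getD 4 (0, [])).2 = true := by decide +kernel

theorem round4_all : allRange (fun p => FischerOut.roundPoint Fi22.Rep.tbl pi ((((((0, []) :: cycT) ++ [(1, [])]) ++ [(3, [])]) ++ [(5, [])]) ++ [(6, [])]) 7 (rounds.getD 4 (0, [])).2 p) 0 3510 = true := by decide +kernel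

theorem round4 : ∀ p < 3510, FischerOut.roundPoint Fi22.Rep.tbl pi ((((((0, []) :: cycT) ++ [(1, [])]) ++ [(3, [])]) ++ [(5, [])]) ++ [(6, [])]) 7 (rounds.getD 4 (0, [])).2 p = true := fun p hp => allRange_spec round4_all p (Nat.zero_le _) (by omega)

theorem roundOK5 : FischerOut.roundOK Fi22.Rep.tbl pi (((((((0, []) :: cycT) ++ [(1, [])]) ++ [(3, [])]) ++ [(5, [])]) ++ [(6, [])]) ++ [(7, [])]) 8 (rounds.getD 5 (0, [])).2 = true := by decide +kernel

theorem round5_all : allRange (fun p => FischerOut.roundPoint Fi22.Rep.tbl pi (((((((0, []) :: cycT) ++ [(1, [])]) ++ [(3, [])]) ++ [(5, [])]) ++ [(6, [])]) ++ [(7, [])]) 8 (rounds.getD 5 (0, [])).2 p) 0 3510 = true := by decide +kernel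

theorem round5 : ∀ p < 3510, FischerOut.roundPoint Fi22.Rep.tbl pi (((((((0, []) :: cycT) ++ [(1, [])]) ++ [(3, [])]) ++ [(5, [])]) ++ [(6, [])]) ++ [(7, [])]) 8 (rounds.getD 5 (0, [])).2 p = true := fun p hp => allRange_spec round5_all p (Nat.zero_le _) (by omega)

theorem roundOK6 : FischerOut.roundOK Fi22.Rep.tbl pi ((((((((0, []) :: cycT) ++ [(1, [])]) ++ [(3, [])]) ++ [(5, [])]) ++ [(6, [])]) ++ [(7, [])]) ++ [(8, [])]) 2 (rounds.getD 6 (0, [])).2 = true := by decide +kernel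

theorem round6_all : allRange (fun p => FischerOut.roundPoint Fi22.Rep.tbl pi ((((((((0, []) :: cycT) ++ [(1, [])]) ++ [(3, [])]) ++ [(5, [])]) ++ [(6, [])]) ++ [(7, [])]) ++ [(8, [])]) 2 (rounds.getD 6 (0, [])).2 p) 0 3510 = true := by decide +kernel

theorem round6 : ∀ p < 3510, FischerOut.roundPoint Fi22.Rep.tbl pi ((((((((0, []) :: cycT) ++ [(1, [])]) ++ [(3, [])]) ++ [(5, [])]) ++ [(6, [])]) ++ [(7, [])]) ++ [(8, [])]) 2 (rounds.getD 6 (0, [])).2 p = true := fun p hp => allRange_spec round6_all p (Nat.zero_le _) (by omega)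

theorem roundOK7 : FischerOut.roundOK Fi22.Rep.tbl pi (((((((((0, []) :: cycT) ++ [(1, [])]) ++ [(3, [])]) ++ [(5, [])]) ++ [(6, [])]) ++ [(7, [])]) ++ [(8, [])]) ++ [(2, [])]) 4 (rounds.getD 7 (0, [])).2 = true := by decide +kernel

theorem round7_all : allRange (fun p => FischerOut.roundPoint Fi22.Rep.tbl pi (((((((((0, []) :: cycT) ++ [(1, [])]) ++ [(3, [])]) ++ [(5, [])]) ++ [(6, [])]) ++ [(7, [])]) ++ [(8, [])]) ++ [(2, [])]) 4 (rounds.getD 7 (0, [])).2 p) 0 3510 = true := by decide +kernel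

theorem round7 : ∀ p < 3510, FischerOut.roundPoint Fi22.Rep.tbl pi (((((((((0, []) :: cycT) ++ [(1, [])]) ++ [(3, [])]) ++ [(5, [])]) ++ [(6, [])]) ++ [(7, [])]) ++ [(8, [])]) ++ [(2, [])]) 4 (rounds.getD 7 (0, [])).2 p = true := fun p hp => allRange_spec round7_all p (Nat.zero_le _) (by omega)

end Cfsg.Agent.Recog71.Fi22Out
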